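import Cfsg.Agent.H289.OZ.Tools
import Cfsg.Agent.H174.Ore.DegTh
import Cfsg.Agent.MonsterX.ThOneClass
import Cfsg.Agent.H672.OZ.Full
import Cfsg.Agent.H730.OZ.Asm

/-!
# One vanishing class: the Thompson group (helper289, S4842)

The sieve leaves 45 degrees.  The Sylow 5-subgroup `P` (order 125) is fused, `|C(z)| = 3000`; the elements of order 13 are
rational with `|C| = 39`: these kill all degrees but 1935360 and 41990400.  The last two are killed by the excess inequality
with the classes 5A, 13A, 2A, 10A.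
-/

set_option autoImplicit false
set_option maxRecDepth 100000

open Cfsg Cfsg.Agent.Characters Cfsg.Agent.H732.VZ Cfsg.Agent.H604.OZ

namespace Cfsg.Agent.H289.OZ

open Subgroup

universe u

/-- in a finite group with an involution `s` which is the only involution commuting with `s`, all involutions are conjugate -/
theorem conj_of_uniq {H : Type*} [Group H] [Finite H] {s t : H} (hs : orderOf s = 2) (ht : orderOf t = 2)
    (hu : ∀ u : H, orderOf u = 2 → u * s = s * u → u = s) : ∃ g : H, g * s * g⁻¹ = t := by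
  have hss : s * s = 1 := by rw [← pow_two, ← hs, pow_orderOf_eq_one]
  have htt : t * t = 1 := by rw [← pow_two, ← ht, pow_orderOf_eq_one]
  have hsi : s⁻¹ = s := inv_eq_of_mul_eq_one_left hss
  have hti : t⁻¹ = t := inv_eq_of_mul_eq_one_left htt
  have hinv : ∀ j : ℕ, s * (s * t) ^ j * s⁻¹ = ((s * t) ^ j)⁻¹ := by
    intro j
    rw [← conj_pow, ← inv_pow]
    congr 1
    rw [mul_inv_rev, hsi, hti, ← mul_assoc, hss, one_mul]
  have hpos : 0 < orderOf (s * t) := orderOf_pos _
  rcases Nat.even_or_odd (orderOf (s * t)) with ⟨k, hk⟩ | ⟨k, hk⟩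
  · have hk0 : 0 < k := by omega
    have h1 : (s * t) ^ k * (s * t) ^ k = 1 := by rw [← pow_add, ← hk, pow_orderOf_eq_one]
    have h2 : (s * t) ^ k ≠ 1 := pow_ne_one_of_lt_orderOf hk0.ne' (by omega)
    have h3 : orderOf ((s * t) ^ k) = 2 := by
      have : Fact (Nat.Prime 2) := ⟨Nat.prime_two⟩
      exact orderOf_eq_prime (by rw [pow_two]; exact h1) h2
    have h4 := hu _ h3 (by
      have h5 := hinv k
      rw [inv_eq_of_mul_eq_one_left h1, mul_inv_eq_iff_eq_mul] at h5
      exact h5.symm)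
    have h5 : s * (s * t) = s * t * s := by
      have h6 : Commute ((s * t) ^ k) (s * t) := (Commute.refl _).pow_left k
      rw [h4] at h6
      exact h6
    have h7 : t * s = s * t := by
      rw [← mul_assoc, hss, one_mul] at h5
      calc t * s = s * t * s * s := by rw [← h5]
        _ = s * t := by rw [mul_assoc, hss, mul_one]
    exact ⟨1, by rw [one_mul, inv_one, mul_one]; exact (hu t ht h7).symm⟩
  · refine ⟨(s * t) ^ k, ?_⟩
    have h1 : s * ((s * t) ^ k)⁻¹ = (s * t) ^ k * s := by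
      have h2 := hinv k
      rw [mul_inv_eq_iff_eq_mul] at h2
      have h3 : s * ((s * t) ^ k)⁻¹ * ((s * t) ^ k) = (s * t) ^ k * s * ((s * t) ^ k) := by
        rw [inv_mul_cancel_right, mul_assoc, h2, mul_inv_cancel_left]
      exact mul_right_cancel h3
    rw [mul_assoc, h1, ← mul_assoc, ← pow_add]
    have h4 : (s * t) ^ (k + k) * (s * t) = 1 := by
      rw [← pow_succ, ← two_mul, ← hk, pow_orderOf_eq_one]
    rw [eq_inv_of_mul_eq_one_left h4, mul_inv_rev, hsi, hti, mul_assoc, hss, mul_one]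

section ten

variable {K : Type u} [Group K] [Finite K] {x y z a : K} (D : H49.ThFive.Dat x y z a)
include D

theorem oa : orderOf a = 2 := by
  have h := D.loc.os
  rwa [Subgroup.orderOf_mk] at h

theorem w_six : (z * a) ^ 6 = z := by
  have h1 : Commute z a := D.az.symm
  rw [h1.mul_pow, show a ^ 6 = (a ^ 2) ^ 3 by rw [← pow_mul], ← oa D, pow_orderOf_eq_one, one_pow, mul_one,
    show z ^ 6 = z ^ 5 * z by rw [← pow_succ], ← D.oz, pow_orderOf_eq_one, one_mul]

theorem w_five : (z * a) ^ 5 = a := by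
  have h1 : Commute z a := D.az.symm
  have h2 : z ^ 5 = 1 := by rw [← D.oz, pow_orderOf_eq_one]
  have h3 : a ^ 2 = 1 := by rw [← oa D, pow_orderOf_eq_one]
  rw [h1.mul_pow, h2, one_mul, show a ^ 5 = (a ^ 2) ^ 2 * a by rw [← pow_mul, ← pow_succ], h3, one_pow, one_mul]

theorem card_w : Nat.card (centralizer ({z * a} : Set K)) = 120 := by
  obtain ⟨N, L⟩ := D.loc.exists_LC
  have h1 := L.orbit.2
  rw [← h1, ← Subgroup.card_map_of_injective (centralizer ({z} : Set K)).subtype_injective]
  congr 2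
  have key : ∀ g : K, g ∈ centralizer ({z * a} : Set K) ↔ (g * z = z * g ∧ g * a = a * g) := by
    intro g
    rw [mem_centralizer_singleton_iff]
    constructor
    · intro h
      have h2 : Commute g (z * a) := h
      have h3 := h2.pow_right 6
      have h4 := h2.pow_right 5
      rw [w_six D] at h3
      rw [w_five D] at h4
      exact ⟨h3, h4⟩
    · rintro ⟨h2, h3⟩
      exact (Commute.mul_right (show Commute g z from h2) (show Commute g a from h3)).eq
  ext g
  rw [key g]
  constructor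
  · rintro ⟨h2, h3⟩
    refine ⟨⟨g, mem_centralizer_singleton_iff.2 h2⟩, ?_, rfl⟩
    exact mem_centralizer_singleton_iff.2 (Subtype.ext h3)
  · rintro ⟨v, hv, rfl⟩
    exact ⟨mem_centralizer_singleton_iff.1 v.2, congrArg Subtype.val (mem_centralizer_singleton_iff.1 hv)⟩

theorem rat_w {m : ℕ} (hm2 : ¬ 2 ∣ m) (hm5 : ¬ 5 ∣ m) : IsConj ((z * a) ^ m) (z * a) := by
  have hf5 : Nat.Prime 5 := by norm_num
  have h1 : Commute z a := D.az.symm
  have hz : orderOf (z ^ m) = 5 := by
    rw [Nat.Coprime.orderOf_pow, D.oz]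
    rw [D.oz]
    exact (Nat.Prime.coprime_iff_not_dvd hf5).2 hm5
  have ha : a ^ m = a := by
    obtain ⟨k, rfl⟩ : ∃ k, m = 2 * k + 1 := ⟨m / 2, by omega⟩
    rw [pow_succ, pow_mul, ← oa D, pow_orderOf_eq_one, one_pow, one_mul]
  obtain ⟨g, hg⟩ := D.all hz
  have ht : g * a * g⁻¹ * z = z * (g * a * g⁻¹) := by
    rw [← hg]
    have h2 : a * z ^ m = z ^ m * a := ((show Commute a z from D.az).pow_right m).eq
    calc g * a * g⁻¹ * (g * z ^ m * g⁻¹) = g * (a * z ^ m) * g⁻¹ := by group
      _ = g * (z ^ m * a) * g⁻¹ := by rw [h2]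
      _ = g * z ^ m * g⁻¹ * (g * a * g⁻¹) := by group
  have hot : orderOf (g * a * g⁻¹) = 2 := by
    rw [← MulAut.conj_apply, MulEquiv.orderOf_eq, oa D]
  obtain ⟨c, hc⟩ := conj_of_uniq (H := centralizer ({z} : Set K)) (s := ⟨a, mem_centralizer_singleton_iff.2 D.az⟩)
    (t := ⟨g * a * g⁻¹, mem_centralizer_singleton_iff.2 ht⟩) D.loc.os (by rw [Subgroup.orderOf_mk]; exact hot) D.loc.uniq
  have hc1 : (c : K) * a * (c : K)⁻¹ = g * a * g⁻¹ := congrArg Subtype.val hc
  have hc2 : (c : K) * z = z * c := mem_centralizer_singleton_iff.1 c.2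
  refine isConj_iff.2 ⟨(c : K)⁻¹ * g, ?_⟩
  rw [h1.mul_pow, ha]
  have hc3 : (c : K)⁻¹ * z * c = z := by rw [mul_assoc, ← hc2, inv_mul_cancel_left]
  calc (c : K)⁻¹ * g * (z ^ m * a) * ((c : K)⁻¹ * g)⁻¹
      = (c : K)⁻¹ * (g * z ^ m * g⁻¹) * (g * a * g⁻¹) * c := by group
    _ = (c : K)⁻¹ * z * (c * a * (c : K)⁻¹) * c := by rw [hg, ← hc1]
    _ = (c : K)⁻¹ * z * c * a := by group
    _ = z * a := by rw [hc3]

theorem ow : orderOf (z * a) = 10 := by
  have h1 : Commute z a := D.az.symm
  rw [h1.orderOf_mul_eq_mul_orderOf_of_coprime (by rw [D.oz, oa D]; norm_num), D.oz, oa D]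

end ten

theorem row_th' [Finite Spor.Th] : H730.OZ.Row Spor.Th := by
  have hN : Nat.card Spor.Th = 90745943887872000 := H174.Ore.Th.card
  have hs : IsSimpleGroup Spor.Th := H174.Ore.Th.simple
  obtain ⟨_, x₀, y₀, z, a, D⟩ := H49.ThFive.exists_dat
  have h13 : ∀ {y : Spor.Th}, orderOf y = 13 → Nat.card (centralizer ({y} : Set Spor.Th)) = 39 :=
    fun hy => H174.Ore.Th.cent_thirteen hy
  obtain ⟨t, ht⟩ := H174.Ore.Th.exists_ord (r := 13) (by norm_num) (by norm_num)
  obtain ⟨f, hf⟩ := H174.Ore.Th.exists_emb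
  have hNt : Nat.card (normalizer (zpowers t : Set Spor.Th)) = (13 - 1) * 39 := by
    have h1 : Nat.card (centralizer (zpowers t : Set Spor.Th)) = 39 := by
      rw [← h13 ht, zpowers_eq_closure, centralizer_closure]
    have h2 := H444.ThLoc.cn13 (R := zpowers t) (by rw [Nat.card_zpowers, ht])
    have h3 : Nat.card (centralizer (zpowers t : Set Spor.Th)) = 39 := h1
    simp only [List.mem_cons, List.not_mem_nil, or_false, Prod.mk.injEq] at h2
    rcases h2 with ⟨h4, h5⟩ | ⟨h4, h5⟩ | ⟨h4, h5⟩ | ⟨h4, h5⟩ | ⟨h4, h5⟩ | ⟨h4, h5⟩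
    · exact h5
    all_goals
      exfalso
      have h6 := h3.symm.trans h4
      norm_num at h6
  have rt : ∀ m : ℕ, m.Coprime (Nat.card Spor.Th) → IsConj (t ^ m) t := fun m hm =>
    pow_conj (by norm_num) ht (h13 ht) hNt (Nat.Coprime.coprime_dvd_right (by rw [hN]; norm_num) hm)
  have rz : ∀ m : ℕ, m.Coprime (Nat.card Spor.Th) → IsConj (z ^ m) z := fun m hm => by
    obtain ⟨g, hg⟩ := D.all (u := z ^ m) (by
      rw [Nat.Coprime.orderOf_pow (Nat.Coprime.coprime_dvd_left (orderOf_dvd_natCard z) hm.symm), D.oz])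
    exact isConj_iff.2 ⟨g, hg⟩
  have h2N : ∀ m : ℕ, m.Coprime (Nat.card Spor.Th) → ¬ 2 ∣ m ∧ ¬ 5 ∣ m := fun m hm =>
    ⟨fun h => by
      have := Nat.Coprime.eq_one_of_dvd (Nat.Coprime.coprime_dvd_left h hm) (by rw [hN]; norm_num)
      norm_num at this, fun h => by
      have := Nat.Coprime.eq_one_of_dvd (Nat.Coprime.coprime_dvd_left h hm) (by rw [hN]; norm_num)
      norm_num at this⟩
  have rw' : ∀ m : ℕ, m.Coprime (Nat.card Spor.Th) → IsConj ((z * a) ^ m) (z * a) := fun m hm =>
    rat_w D (h2N m hm).1 (h2N m hm).2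
  have ra : ∀ m : ℕ, m.Coprime (Nat.card Spor.Th) → IsConj (a ^ m) a := fun m hm => by
    obtain ⟨k, hk⟩ : ∃ k, m = 2 * k + 1 := ⟨m / 2, by have := (h2N m hm).1; omega⟩
    rw [hk, pow_succ, pow_mul, ← oa D, pow_orderOf_eq_one, one_pow, one_mul]
  have ca : Nat.card (centralizer ({a} : Set Spor.Th)) = 92897280 :=
    Cfsg.Agent.MonsterX.ThOneClass.card_centralizer (oa D)
  refine row_of fun χ x h => ?_
  have h4 : 4 ≤ cent x := four_le_cent h (by rw [hN]; norm_num) (by rw [hN]; norm_num)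
  have hiso : ∀ r ∈ [19, 31], charDegree (χ : Spor.Th → ℂ) % r = 0 ∨
      charDegree (χ : Spor.Th → ℂ) % r = 1 ∨ charDegree (χ : Spor.Th → ℂ) % r = r - 1 := by
    intro r hr
    simp only [List.mem_cons, List.not_mem_nil, or_false] at hr
    rcases hr with rfl | rfl
    · exact H672.OZ.iso_mod h (by norm_num) (by norm_num) (by rw [hN]; norm_num) (by rw [hN]; norm_num)
        (by rw [hN]; norm_num) (fun y hy => (H829.Pw.th_cent19 hf hy).1) h4
    · exact H672.OZ.iso_mod h (by norm_num) (by norm_num) (by rw [hN]; norm_num) (by rw [hN]; norm_num)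
        (by rw [hN]; norm_num) (fun y hy => H829.Pw.th_cent31 hf hy) h4
  have hm := H672.OZ.mem_of_sieve h hN (l := [(2,15),(3,10),(5,3),(7,2),(13,1),(19,1),(31,1)]) (by decide +kernel)
    (by
      intro x hx
      simp only [List.mem_cons, List.not_mem_nil, or_false] at hx
      rcases hx with rfl | rfl | rfl | rfl | rfl | rfl | rfl <;> norm_num)
    (by decide +kernel) h4 hiso (D := [342, 1425, 1520, 3192, 6480, 10260, 10944, 13300, 21546, 45600, 48640, 69255, 73872, 89775, 95760, 102144, 307800, 328320, 350208, 425600, 498636, 646380, 689472, 1459200, 1556480, 1935360, 2077650, 2216160, 2363904, 2872800, 3064320, 3268608, 4363065, 4653936, 9849600, 10077696, 10506240, 13619200, 14959080, 15956352, 19391400, 20684160, 22063104, 41990400, 66484800]) (by decide +kernel)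
  -- the values
  obtain ⟨k5, hk5⟩ := H849.OZ.rat (χ := χ) rz
  obtain ⟨k13, hk13⟩ := H849.OZ.rat (χ := χ) rt
  obtain ⟨k2, hk2⟩ := H849.OZ.rat (χ := χ) ra
  obtain ⟨k10, hk10⟩ := H849.OZ.rat (χ := χ) rw'
  have c5 : cent z = 3000 := D.card_C
  have c13 : cent t = 39 := h13 ht
  have cw : cent (z * a) = 120 := card_w D
  have m5 := fused (S := H49.ThFive.PP x₀ y₀ z) (fun u hu hu1 => isConj_iff.2 (D.conj_z hu hu1)) hk5 D.card_P
  have m13 := fused (χ := χ) (S := zpowers t) (y := t) (fun u hu hu1 => by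
    obtain ⟨j, rfl⟩ := (mem_powers_iff_mem_zpowers (x := t) (y := u)).2 hu
    refine pow_conj (p := 13) (by norm_num) ht (h13 ht) hNt ?_
    rw [Nat.coprime_comm]
    refine (Nat.Prime.coprime_iff_not_dvd (by norm_num)).2 fun hd => hu1 ?_
    obtain ⟨i, rfl⟩ := hd
    show t ^ (13 * i) = 1
    rw [pow_mul, ← ht, pow_orderOf_eq_one, one_pow]) hk13 (by rw [Nat.card_zpowers, ht])
  have b5 := one_le h rz hk5 h4 c5.le 27 (by norm_num)
  have b13 := one_le h rt hk13 h4 c13.le 3 (by norm_num)
  have b19 : 19 ∣ charDegree (χ : Spor.Th → ℂ) → (k5 = 0 ∨ k5.natAbs ≤ 12) ∧ (k13 = 0 ∨ k13.natAbs ≤ 1) := by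
    intro hd
    have h5 := (H672.OZ.full h (r := 19) (n := 1) (by norm_num) (by norm_num) (by rw [hN]; norm_num)
      (by rw [hN]; norm_num) (by rw [pow_one]; exact hd)).2.1
    rw [pow_one] at h5
    exact ⟨one_le h rz hk5 h5.ge c5.le 12 (by norm_num), one_le h rt hk13 h5.ge c13.le 1 (by norm_num)⟩
  have hd2 : charDegree (χ : Spor.Th → ℂ) = 1935360 ∨ charDegree (χ : Spor.Th → ℂ) = 41990400 := by
    generalize charDegree (χ : Spor.Th → ℂ) = d at hm m5 m13 b19 ⊢
    simp only [List.mem_cons, List.not_mem_nil, or_false] at hm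
    rcases hm with rfl | rfl | rfl | rfl | rfl | rfl | rfl | rfl | rfl | rfl | rfl | rfl | rfl | rfl | rfl | rfl | rfl | rfl | rfl | rfl | rfl | rfl | rfl | rfl | rfl | rfl | rfl | rfl | rfl | rfl | rfl | rfl | rfl | rfl | rfl | rfl | rfl | rfl | rfl | rfl | rfl | rfl | rfl | rfl | rfl <;> first | exact Or.inl rfl | exact Or.inr rfl | (exfalso; omega)
  have h4R : (4 : ℝ) ≤ cent x := by exact_mod_cast h4
  rcases hd2 with hd | hd
  · -- 1935360
    rw [hd] at m5 m13
    have e5 : k5 = -15 := by omega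
    have e13 : k13 = -2 := by omega
    have m2 : ((2 ^ 11 : ℕ) : ℤ) ∣ k2 := pow_dvd (r := 2) (a := 11) Nat.prime_two (by rw [hd]; norm_num) (by
      have h5 := (centralizer ({a} : Set Spor.Th)).card_mul_index
      rw [ca, hN] at h5
      intro h6
      obtain ⟨j, hj⟩ := h6
      rw [hj] at h5
      omega) hk2
    have n2 : k2 ≠ 0 := by
      intro h0
      have hx : IsConj x a := h.uniq a (by rw [hk2, h0]; simp)
      have h5 : cent x = 92897280 := (H672.OZ.cent_eq_of_conj hx).trans ca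
      have h6 := cent_mul_le h
      rw [h5, hd, hN] at h6
      norm_num at h6
    have p10 : (2 : ℤ) ∣ k10 - k5 := by
      have := congr_int (χ := χ) (g := z * a) (r := 2) (j := 6) (n := 1) Nat.prime_two (by
        rw [w_six D, pow_one, (show Commute z a from D.az.symm).mul_pow]
        have h3 : a ^ 2 = 1 := by rw [← oa D, pow_orderOf_eq_one]
        rw [h3, mul_one]) hk10 (l := k5) (by rw [w_six D, hk5])
      exact_mod_cast this
    have q10 : (5 : ℤ) ∣ k10 - k2 := by
      have := congr_int (χ := χ) (g := z * a) (r := 5) (j := 5) (n := 1) (by norm_num) (by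
        rw [← pow_mul, pow_one, show 5 * 5 = 10 * 2 + 5 by norm_num, pow_add, pow_mul, ← ow D, pow_orderOf_eq_one,
          one_pow, one_mul]) hk10 (l := k2) (by rw [w_five D, hk2])
      exact_mod_cast this
    have n10 : k10 ≠ 0 := by omega
    have hex := excess_fin h ![z, t, a, z * a] ![k5, k13, k2, k10]
      (fun i => by fin_cases i <;> assumption) (fun i => by fin_cases i <;> assumption)
      (fun i => by
        fin_cases i
        · show k5 ≠ 0
          omega
        · show k13 ≠ 0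
          omega
        · exact n2
        · exact n10)
      (by
        have hord : ∀ i, orderOf (![z, t, a, z * a] i) = ![5, 13, 2, 10] i := by
          intro i
          fin_cases i
          exacts [D.oz, ht, oa D, ow D]
        intro i j hij
        rw [hord, hord]
        revert i j
        decide)
    rw [Fin.sum_univ_four] at hex
    have hex' : (cent x : ℝ) * (((k5 : ℝ) ^ 2 - 1) / cent z + ((k13 : ℝ) ^ 2 - 1) / cent t +
      ((k2 : ℝ) ^ 2 - 1) / cent a + ((k10 : ℝ) ^ 2 - 1) / cent (z * a)) ≤ 1 := hex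
    rw [c5, c13, show cent a = 92897280 from ca, cw, e5, e13] at hex'
    push_cast at hex'
    have h10 : (1 : ℝ) ≤ (k10 : ℝ) ^ 2 := by
      have : (1 : ℤ) ≤ k10 ^ 2 := by
        have : 0 < k10 ^ 2 := by positivity
        omega
      exact_mod_cast this
    have hcase : (4096 : ℤ) ≤ |k2| ∨ ((2048 : ℤ) ≤ |k2| ∧ (3 : ℤ) ≤ |k10|) := by
      obtain ⟨j, hj⟩ := m2
      norm_num at hj
      rcases le_or_gt (4096 : ℤ) |k2| with h5 | h5
      · exact Or.inl h5
      · right
        rw [abs_lt] at h5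
        have hj1 : j = 1 ∨ j = -1 := by omega
        rcases hj1 with rfl | rfl
        · rw [hj]
          refine ⟨by norm_num, ?_⟩
          rw [hj] at q10
          rw [le_abs]
          omega
        · rw [hj]
          refine ⟨by norm_num, ?_⟩
          rw [hj] at q10
          rw [le_abs]
          omega
    have hS : (0.2504 : ℝ) ≤ ((-15) ^ 2 - 1) / 3000 + ((-2) ^ 2 - 1) / 39 + ((k2 : ℝ) ^ 2 - 1) / 92897280 +
        ((k10 : ℝ) ^ 2 - 1) / 120 := by
      rcases hcase with h5 | ⟨h5, h6⟩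
      · have h7 : (4096 : ℝ) ^ 2 ≤ (k2 : ℝ) ^ 2 := by
          rw [← sq_abs (k2 : ℝ)]
          have : (4096 : ℝ) ≤ |(k2 : ℝ)| := by exact_mod_cast h5
          gcongr
        norm_num at h7 ⊢
        linarith
      · have h7 : (2048 : ℝ) ^ 2 ≤ (k2 : ℝ) ^ 2 := by
          rw [← sq_abs (k2 : ℝ)]
          have : (2048 : ℝ) ≤ |(k2 : ℝ)| := by exact_mod_cast h5
          gcongr
        have h8 : (3 : ℝ) ^ 2 ≤ (k10 : ℝ) ^ 2 := by
          rw [← sq_abs (k10 : ℝ)]
          have : (3 : ℝ) ≤ |(k10 : ℝ)| := by exact_mod_cast h6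
          gcongr
        norm_num at h7 h8 ⊢
        linarith
    have h9 := mul_le_mul h4R hS (by norm_num) (by linarith)
    linarith
  · -- 41990400
    rw [hd] at m5 m13
    have e5 : k5 = 25 := by omega
    have e13 : k13 = -3 := by omega
    have hex := excess_fin h ![z, t] ![k5, k13]
      (fun i => by fin_cases i <;> assumption) (fun i => by fin_cases i <;> assumption)
      (fun i => by
        fin_cases i
        · show k5 ≠ 0
          omega
        · show k13 ≠ 0
          omega)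
      (by
        have hord : ∀ i, orderOf (![z, t] i) = ![5, 13] i := by
          intro i
          fin_cases i
          exacts [D.oz, ht]
        intro i j hij
        rw [hord, hord]
        revert i j
        decide)
    rw [Fin.sum_univ_two] at hex
    have hex' : (cent x : ℝ) * (((k5 : ℝ) ^ 2 - 1) / cent z + ((k13 : ℝ) ^ 2 - 1) / cent t) ≤ 1 := hex
    rw [c5, c13, e5, e13] at hex'
    norm_num at hex'
    linarith

/-- **S4842, the Thompson group.** -/
theorem row_th {S : Type u} [Group S] [Finite S] (_hs : IsSimpleGroup S) (h : Spor.IsoTh S) : H730.OZ.Row S := by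
  obtain ⟨e⟩ := h
  have hfin : Finite Spor.Th := Finite.of_equiv _ e.toEquiv
  exact H730.OZ.Row.congr e row_th'

end Cfsg.Agent.H289.OZ
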