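import Cfsg.Agent.H393.Iso.TitsJ4
import Cfsg.Agent.H547.SelfCent.Tits
import Cfsg.Agent.CpAutTits.Row
import Cfsg.Agent.H849.OZ.Bad
import Cfsg.Agent.H672.OZ.Full
import Cfsg.Agent.H730.OZ.Asm
import Cfsg.Agent.SmallSimple.BrauerTypesBasic
import Cfsg.Agent.NotCT.Orders

/-!
# One vanishing class: the Tits group (helper289, S4842)

The sieve leaves the degrees 12, 40, 64, 90, 144, 480, 768.  The Sylow 5-subgroups are elementary abelian of order 25, all
elements of order 5 are conjugate with centralizers of order 50: the value `k` of `χ` at these elements satisfies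
`χ(1) + 24 k ≡ 0 (mod 25)` and, by the excess inequality, `4 (k² - 1) ≤ 50`.
-/

set_option autoImplicit false
set_option maxRecDepth 100000

open Cfsg Cfsg.Agent.Characters Cfsg.Agent.H732.VZ Cfsg.Agent.H604.OZ

namespace Cfsg.Agent.H289.OZ

universe u v

/-! ### the elements of order five -/

/-- the facts on the elements of order five -/
structure F5 (G : Type u) [Group G] : Prop where
  conj : ∀ a b : G, orderOf a = 5 → orderOf b = 5 → IsConj a b
  ex : ∃ P : Subgroup G, Nat.card P = 25 ∧ ∀ a ∈ P, a ^ 5 = 1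

theorem F5.congr {G : Type u} {H : Type v} [Group G] [Group H] (e : G ≃* H) (h : F5 H) : F5 G where
  conj a b ha hb := (H730.OZ.isConj_map_iff e a b).1 (h.conj _ _ (by rw [e.orderOf_eq, ha]) (by rw [e.orderOf_eq, hb]))
  ex := by
    obtain ⟨P, hP, hP5⟩ := h.ex
    refine ⟨P.comap e.toMonoidHom, ?_, fun a ha => ?_⟩
    · rw [← hP]
      have h1 : P.comap e.toMonoidHom = P.map e.symm.toMonoidHom := by
        ext a
        constructor
        · intro ha
          exact ⟨e a, ha, e.symm_apply_apply a⟩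
        · rintro ⟨b, hb, rfl⟩
          show e (e.symm b) ∈ P
          rwa [e.apply_symm_apply]
      rw [h1]
      exact Subgroup.card_map_of_injective e.symm.injective
    · have h1 := hP5 _ ha
      apply e.injective
      rw [map_pow, map_one]
      exact h1

open Cfsg.Agent.Omega.TwoF.Tits Cfsg.Agent.Omega.TwoF.Scalar Cfsg.Agent.Omega.TwoF.Orb
  Cfsg.Agent.ChevalleyStructure.Tits.Main Cfsg.Agent.CpAutTits

theorem f5_of_hyp {G : Type u} [Group G] [Finite G] {P : Subgroup G} (h : Hyp P) : F5 G where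
  conj _ _ ha hb := isConj_iff.2 (h.exists_conj ha hb)
  ex := ⟨P, h.cardP, h.exp⟩

theorem f5_C {L' : Type} [Group L'] (X : Subgroup L') (e : C ≃* ↥X)
    (hten : ∀ y : ↥X, orderOf y = 5 → ∀ i, orderOf i = 2 → i * y = y * i →
      Nat.card ↥(Subgroup.centralizer ({y} : Set ↥X) ⊓ Subgroup.centralizer ({i} : Set ↥X)) = 10)
    (hex : ∃ y i : ↥X, orderOf y = 5 ∧ orderOf i = 2 ∧ i * y = y * i) : F5 C := by
  have h := Row.hyp_of_ten (G := C) e hten hex
  exact f5_of_hyp (Fus.hyp h.1 h.2)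

theorem f5_aux {L : Type*} [Group L] (K K' : Subgroup L) (hK : K = K') {L' : Type} [Group L'] (X : Subgroup L')
    (e : Nonempty (↥(_root_.commutator K) ≃* ↥X))
    (hten : ∀ y : ↥X, orderOf y = 5 → ∀ i, orderOf i = 2 → i * y = y * i →
      Nat.card ↥(Subgroup.centralizer ({y} : Set ↥X) ⊓ Subgroup.centralizer ({i} : Set ↥X)) = 10)
    (hex : ∃ y i : ↥X, orderOf y = 5 ∧ orderOf i = 2 ∧ i * y = y * i)
    (h : ↥(_root_.commutator K') ≃* ↥X →
      (∀ y : ↥X, orderOf y = 5 → ∀ i, orderOf i = 2 → i * y = y * i →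
        Nat.card ↥(Subgroup.centralizer ({y} : Set ↥X) ⊓ Subgroup.centralizer ({i} : Set ↥X)) = 10) →
      (∃ y i : ↥X, orderOf y = 5 ∧ orderOf i = 2 ∧ i * y = y * i) → F5 ↥(_root_.commutator K')) :
    F5 ↥(_root_.commutator K) := by
  subst hK
  obtain ⟨e⟩ := e
  exact h e hten hex

theorem ex_TT : ∃ y i : ↥Cfsg.Agent.TitsK.TT, orderOf y = 5 ∧ orderOf i = 2 ∧ i * y = y * i :=
  ⟨Ten.facts.xT, Ten.facts.zT, Ten.facts.order_x, Ten.facts.order_z, Ten.facts.comm_zx⟩

theorem f5_titsGroup : F5 Cfsg.Lie.TitsGroup :=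
  f5_aux (Cfsg.Lie.twistedF4 (ZMod 2) 1) _
    Cfsg.Agent.ChevalleyStructure.Tits.Main.T0_eq_H0 Cfsg.Agent.TitsK.TT
    Cfsg.Agent.TitsK.exists_equiv Ten.facts.ten ex_TT (f5_C Cfsg.Agent.TitsK.TT)

theorem transp {X : Type*} [Group X] (K : Subgroup X) {G : Type*} [Group G] (e : Nonempty (G ≃* _root_.commutator K))
    (h : F5 ↥(_root_.commutator K)) : F5 G := by
  obtain ⟨e⟩ := e
  exact h.congr e

theorem f5_tits {S : Type u} [Group S] (h : Lie.IsoTits S) : F5 S := transp _ h f5_titsGroup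

/-! ### the value at the elements of order five -/

theorem sum_five {G : Type u} [Group G] [Finite G] (F : F5 G) (χ : IrrCharacter G) {y : G} (hy : orderOf y = 5)
    {k : ℤ} (hk : (χ : G → ℂ) y = k) : ∃ m : ℕ, (charDegree (χ : G → ℂ) : ℤ) + 24 * k = 25 * m := by
  classical
  obtain ⟨P, hP, hP5⟩ := F.ex
  have := Fintype.ofFinite P
  obtain ⟨m, hm⟩ := SmallSimple.BrauerTypesBasic.exists_mult P (Core.isIrr_isCharacter χ.2)
  refine ⟨m, ?_⟩
  have h1 : ∀ p : P, (χ : G → ℂ) p = (if p = 1 then (charDegree (χ : G → ℂ) : ℂ) - k else 0) + k := by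
    intro p
    by_cases hp : p = 1
    · rw [if_pos hp, hp]
      rw [sub_add_cancel, H686.CharKit.charDegree_irr χ]
      rfl
    · rw [if_neg hp, zero_add, ← hk]
      have h5 : orderOf (p : G) = 5 := by
        have : Fact (Nat.Prime 5) := ⟨by norm_num⟩
        refine orderOf_eq_prime (hP5 p p.2) fun h => hp (Subtype.ext h)
      obtain ⟨c, hc⟩ := isConj_iff.1 (F.conj y p hy h5)
      rw [← hc]
      exact (Core.isIrr_isClassFunction χ.2) y c
  rw [Finset.sum_congr rfl fun p _ => h1 p, Finset.sum_add_distrib, Finset.sum_ite_eq' Finset.univ (1 : P),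
    if_pos (Finset.mem_univ _), Finset.sum_const, Finset.card_univ, ← Nat.card_eq_fintype_card, hP, nsmul_eq_mul] at hm
  have h2 : (((charDegree (χ : G → ℂ) : ℤ) + 24 * k : ℤ) : ℂ) = ((25 * m : ℤ) : ℂ) := by
    push_cast
    push_cast at hm
    rw [← hm]
    ring
  exact_mod_cast h2

/-- **S4842, the Tits group.** -/
theorem row_tits {S : Type u} [Group S] [Finite S] (hs : IsSimpleGroup S) (h : Lie.IsoTits S) : H730.OZ.Row S := by
  have hN : Nat.card S = 17971200 := Cfsg.Agent.NotCT.Orders.tits h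
  have h50 := (Cfsg.Agent.CpAutTits.Row.out h).cent
  have F := f5_tits h
  refine row_of fun χ x h1 => ?_
  have h4 : 4 ≤ cent x := four_le_cent h1 (by rw [hN]; norm_num) (by rw [hN]; norm_num)
  have hiso : ∀ r ∈ [13], charDegree (χ : S → ℂ) % r = 0 ∨
      charDegree (χ : S → ℂ) % r = 1 ∨ charDegree (χ : S → ℂ) % r = r - 1 := by
    intro r hr
    simp only [List.mem_cons, List.not_mem_nil, or_false] at hr
    subst hr
    exact H672.OZ.iso_mod h1 (by norm_num) (by norm_num) (by rw [hN]; norm_num) (by rw [hN]; norm_num) (by rw [hN]; norm_num)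
      (fun y hy => Cfsg.Agent.H547.SelfCent.tits h hs (Cfsg.Agent.H393.Iso.na_tits h) hy) h4
  have hm := H672.OZ.mem_of_sieve h1 hN (l := [(2,11),(3,3),(5,2),(13,1)]) (by decide +kernel)
    (by
      intro x hx
      simp only [List.mem_cons, List.not_mem_nil, or_false] at hx
      rcases hx with rfl | rfl | rfl | rfl <;> norm_num)
    (by decide +kernel) h4 hiso (D := [12, 40, 64, 90, 144, 480, 768]) (by decide +kernel)
  have : Fact (Nat.Prime 5) := ⟨by norm_num⟩
  obtain ⟨y, hy⟩ := exists_prime_orderOf_dvd_card' (G := S) 5 (by rw [hN]; norm_num)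
  have hrat : ∀ m : ℕ, m.Coprime (Nat.card S) → IsConj (y ^ m) y := fun m hm =>
    F.conj _ _ (by rw [Nat.Coprime.orderOf_pow (Nat.Coprime.coprime_dvd_left (orderOf_dvd_natCard y) hm.symm), hy]) hy
  obtain ⟨k, hk⟩ := H849.OZ.rat (χ := χ) hrat
  obtain ⟨m, hm25⟩ := sum_five F χ hy hk
  have hk3 : ¬ IsConj x y → k.natAbs ≤ 3 := by
    intro hx
    have h2 := H849.OZ.one_class h1 hrat hk hx (n := k.natAbs) (Int.natAbs_dvd.2 dvd_rfl)
    have h3 : cent y = 50 := h50 y hy
    rw [h3] at h2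
    by_contra hlt
    have h5 : 4 ≤ k.natAbs := by omega
    have h6 : 15 ≤ k.natAbs ^ 2 - 1 := by
      have : 16 ≤ k.natAbs ^ 2 := by nlinarith
      omega
    have h7 := Nat.mul_le_mul h4 h6
    omega
  have hk4 : k.natAbs ≤ 3 := by
    by_cases hx : IsConj x y
    · have h2 : (χ : S → ℂ) y = 0 := by
        obtain ⟨c, hc⟩ := isConj_iff.1 hx
        rw [← hc, (Core.isIrr_isClassFunction χ.2) x c]
        exact h1.zero
      rw [hk] at h2
      have h3 : k = 0 := by exact_mod_cast h2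
      rw [h3]
      norm_num
    · exact hk3 hx
  generalize charDegree (χ : S → ℂ) = d at hm hm25
  simp only [List.mem_cons, List.not_mem_nil, or_false] at hm
  omega

end Cfsg.Agent.H289.OZ
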